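import Mathlib
import Cfsg.Prelude.Def_Solvable

/-!
Basic facts on the p-core and the Fitting subgroup of a finite group.
-/

namespace CfsgLib.Fitting

set_option linter.style.haveILetI false

open scoped Pointwise

variable {G : Type*} [Group G]

theorem pCore_isPGroup (p : ℕ) : IsPGroup p (Cfsg.pCore p G) :=
  Sylow.sSup_of_normal _ (fun _ h => h.2) (fun _ h => h.1)

theorem pCore_normal (p : ℕ) : (Cfsg.pCore p G).Normal :=
  Subgroup.sSup_normal _ (fun _ h => h.1)

theorem le_pCore {p : ℕ} {N : Subgroup G} (hn : N.Normal) (hp : IsPGroup p N) :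
    N ≤ Cfsg.pCore p G :=
  le_sSup ⟨hn, hp⟩

/-- The join of all normal subgroups contained in every Sylow subgroup is the p-core. -/
theorem pCore_eq_iInf_sylow (p : ℕ) [Fact p.Prime] :
    Cfsg.pCore p G = ⨅ P : Sylow p G, (P : Subgroup G) := by
  haveI := pCore_normal (G := G) p
  apply le_antisymm
  · exact le_iInf fun P => IsPGroup.le_sylow_of_normal (pCore_isPGroup p) P
  · apply le_pCore
    · constructor
      intro x hx g
      rw [Subgroup.mem_iInf] at hx ⊢
      intro P
      have := hx (g⁻¹ • P)
      rw [Sylow.coe_subgroup_smul, Subgroup.mem_pointwise_smul_iff_inv_smul_mem] at this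
      simpa [MulAut.conj_apply] using this
    · obtain ⟨P⟩ := (inferInstance : Nonempty (Sylow p G))
      exact P.2.to_le (iInf_le _ P)

theorem mem_pCore_iff_forall_sylow {p : ℕ} [Fact p.Prime] {x : G} :
    x ∈ Cfsg.pCore p G ↔ ∀ P : Sylow p G, x ∈ (P : Subgroup G) := by
  rw [pCore_eq_iInf_sylow, Subgroup.mem_iInf]

theorem le_fittingSubgroup {N : Subgroup G} (hn : N.Normal) (hN : Group.IsNilpotent N) :
    N ≤ Cfsg.fittingSubgroup G :=
  le_sSup ⟨hn, hN⟩

theorem fittingSubgroup_normal : (Cfsg.fittingSubgroup G).Normal :=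
  Subgroup.sSup_normal _ (fun _ h => h.1)

/-- The join of two normal nilpotent subgroups of a finite group is nilpotent. -/
theorem isNilpotent_sup_of_normal [Finite G] {H K : Subgroup G} (hHn : H.Normal) (hKn : K.Normal)
    (hH : Group.IsNilpotent H) (hK : Group.IsNilpotent K) :
    Group.IsNilpotent ↥(H ⊔ K) := by
  refine ((Group.isNilpotent_of_finite_tfae (G := ↥(H ⊔ K))).out 0 3).mpr ?_
  intro p hp P
  haveI := hp
  obtain ⟨PH⟩ := (inferInstance : Nonempty (Sylow p H))
  obtain ⟨PK⟩ := (inferInstance : Nonempty (Sylow p K))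
  haveI hPH : (PH : Subgroup H).Characteristic := Sylow.characteristic_of_normal PH inferInstance
  haveI hPK : (PK : Subgroup K).Characteristic := Sylow.characteristic_of_normal PK inferInstance
  set A := (PH : Subgroup H).map H.subtype with hA
  set B := (PK : Subgroup K).map K.subtype with hB
  haveI hAn : A.Normal := by
    haveI := hHn
    exact ConjAct.normal_of_characteristic_of_normal
  haveI hBn : B.Normal := by
    haveI := hKn
    exact ConjAct.normal_of_characteristic_of_normal
  have hAB : IsPGroup p ↥(A ⊔ B) :=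
    IsPGroup.to_sup_of_normal_right (PH.2.map _) (PK.2.map _)
  set R := A ⊔ B with hR
  have hRle : R ≤ H ⊔ K :=
    sup_le (le_trans (Subgroup.map_subtype_le _) le_sup_left)
      (le_trans (Subgroup.map_subtype_le _) le_sup_right)
  have hAidx : ¬ p ∣ A.relIndex H := by
    have : A.relIndex H = (PH : Subgroup H).index := by
      rw [hA, Subgroup.relIndex, Subgroup.subgroupOf, Subgroup.comap_map_eq_self_of_injective H.subtype_injective]
    rw [this]; exact PH.not_dvd_index
  have hBidx : ¬ p ∣ B.relIndex K := by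
    have : B.relIndex K = (PK : Subgroup K).index := by
      rw [hB, Subgroup.relIndex, Subgroup.subgroupOf, Subgroup.comap_map_eq_self_of_injective K.subtype_injective]
    rw [this]; exact PK.not_dvd_index
  have h1 : R.relIndex (H ⊔ K) = R.relIndex (R ⊔ H) * (R ⊔ H).relIndex (H ⊔ K) :=
    (Subgroup.relIndex_mul_relIndex _ _ _ le_sup_left (sup_le hRle le_sup_left)).symm
  haveI : R.Normal := Subgroup.sup_normal A B
  haveI := hHn
  haveI : (R ⊔ H).Normal := Subgroup.sup_normal R H
  have h2 : R.relIndex (R ⊔ H) ∣ A.relIndex H := by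
    rw [Subgroup.relIndex_sup_left]
    exact Subgroup.relIndex_dvd_of_le_left H le_sup_left
  have h3 : (R ⊔ H).relIndex (H ⊔ K) ∣ B.relIndex K := by
    have : H ⊔ K = (R ⊔ H) ⊔ K := by
      apply le_antisymm
      · exact sup_le_sup le_sup_right le_rfl
      · exact sup_le (sup_le hRle le_sup_left) le_sup_right
    rw [this, Subgroup.relIndex_sup_left]
    exact Subgroup.relIndex_dvd_of_le_left K (le_trans le_sup_right le_sup_left)
  have hidx : ¬ p ∣ (R.subgroupOf (H ⊔ K)).index := by
    change ¬ p ∣ R.relIndex (H ⊔ K)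
    rw [h1]
    intro h
    rcases hp.out.dvd_mul.mp h with h | h
    · exact hAidx (h.trans h2)
    · exact hBidx (h.trans h3)
  have hRp : IsPGroup p ↥(R.subgroupOf (H ⊔ K)) :=
    hAB.comap_of_injective _ (H ⊔ K).subtype_injective
  haveI : (R.subgroupOf (H ⊔ K)).Normal := Subgroup.normal_subgroupOf
  let Q : Sylow p ↥(H ⊔ K) := hRp.toSylow hidx
  haveI : (Q : Subgroup ↥(H ⊔ K)).Normal := by
    simpa [Q] using (inferInstance : (R.subgroupOf (H ⊔ K)).Normal)
  obtain ⟨g, hg⟩ := MulAction.exists_smul_eq ↥(H ⊔ K) Q P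
  rw [Sylow.smul_eq_of_normal] at hg
  exact hg ▸ ‹(Q : Subgroup ↥(H ⊔ K)).Normal›

/-- The Fitting subgroup of a finite group is nilpotent. -/
theorem fittingSubgroup_isNilpotent [Finite G] : Group.IsNilpotent (Cfsg.fittingSubgroup G) := by
  classical
  let S : Set (Subgroup G) := {N | N.Normal ∧ Group.IsNilpotent N}
  have hbot : Group.IsNilpotent (⊥ : Subgroup G) := inferInstance
  have key : ∀ T : Finset (Subgroup G), (↑T : Set (Subgroup G)) ⊆ S →
      (T.sup id).Normal ∧ Group.IsNilpotent ↥(T.sup id) := by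
    intro T
    induction T using Finset.induction_on with
    | empty =>
      intro _
      rw [Finset.sup_empty]
      exact ⟨inferInstance, hbot⟩
    | insert N T hN ih =>
      intro hsub
      rw [Finset.coe_insert, Set.insert_subset_iff] at hsub
      obtain ⟨h1, h2⟩ := ih hsub.2
      rw [Finset.sup_insert, id_eq]
      haveI := hsub.1.1
      haveI := h1
      exact ⟨Subgroup.sup_normal _ _, isNilpotent_sup_of_normal hsub.1.1 h1 hsub.1.2 h2⟩
  have heq : Cfsg.fittingSubgroup G = (Set.toFinite S).toFinset.sup id := by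
    rw [Finset.sup_id_eq_sSup, Set.Finite.coe_toFinset]
    rfl
  rw [heq]
  exact (key _ (by simp)).2

theorem pCore_le_fittingSubgroup [Finite G] (p : ℕ) [Fact p.Prime] :
    Cfsg.pCore p G ≤ Cfsg.fittingSubgroup G :=
  le_fittingSubgroup (pCore_normal p) (pCore_isPGroup p).isNilpotent

/-- In a finite nilpotent group, the index-th power of every element lies in the subgroup. -/
theorem pow_index_mem_of_isNilpotent [Finite G] [Group.IsNilpotent G] (K : Subgroup G) :
    ∀ x : G, x ^ K.index ∈ K := by
  induction K using WellFoundedGT.induction with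
  | ind K ih =>
    intro x
    rcases eq_or_ne K ⊤ with rfl | hK
    · simp
    have hlt : K < Subgroup.normalizer (K : Set G) :=
      normalizerCondition_of_isNilpotent K (lt_top_iff_ne_top.mpr hK)
    have h1 := ih _ hlt x
    haveI : (K.subgroupOf (Subgroup.normalizer (K : Set G))).Normal :=
      Subgroup.normal_in_normalizer
    have h2 := Subgroup.pow_index_mem (K.subgroupOf (Subgroup.normalizer (K : Set G))) ⟨_, h1⟩
    rw [Subgroup.mem_subgroupOf] at h2
    simp only [SubmonoidClass.coe_pow, ← pow_mul] at h2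
    rw [← Subgroup.relIndex_mul_index hlt.le, mul_comm]
    exact h2

/-- For a normal subgroup `N`, the relative index of `H` in `N` divides the index of `H`. -/
theorem relIndex_dvd_index_of_normal_right [Finite G] (H N : Subgroup G) [N.Normal] :
    H.relIndex N ∣ H.index := by
  have key : H.relIndex (H ⊔ N) = H.relIndex N := by
    have e1 := Subgroup.relIndex_mul_relIndex ⊥ H (H ⊔ N) bot_le le_sup_left
    have e2 := Subgroup.relIndex_mul_relIndex ⊥ N (H ⊔ N) bot_le le_sup_right
    have e3 := Subgroup.relIndex_mul_relIndex ⊥ (H ⊓ N) N bot_le inf_le_right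
    have e4 := Subgroup.relIndex_mul_relIndex ⊥ (H ⊓ N) H bot_le inf_le_left
    rw [Subgroup.inf_relIndex_right] at e3
    rw [Subgroup.inf_relIndex_left] at e4
    rw [Subgroup.relIndex_sup_right] at e2
    simp only [Subgroup.relIndex_bot_left] at e1 e2 e3 e4
    have hH : 0 < Nat.card H := Nat.card_pos
    apply Nat.eq_of_mul_eq_mul_left hH
    rw [e1, ← e2, ← e3, ← e4]
    ring
  rw [← key]
  exact Subgroup.relIndex_dvd_index_of_le le_sup_left

end CfsgLib.Fitting
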